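import Cfsg.Agent.Lib.Fischer3.Primitive
import Cfsg.Agent.Lib.Components.Fitting

/-!
# Relations between commuting 3-transpositions
-/

set_option autoImplicit false
set_option linter.unusedSectionVars false

namespace Cfsg.Agent.Fischer3Rel

open Cfsg ClassK Fischer3

universe u

variable {G : Type u} [Group G] {D : Set G}

/-- The members other than `d` commuting with `d`. -/
abbrev perp (D : Set G) (d : G) : Set G := {y : G | y ∈ D ∧ y ≠ d ∧ Commute d y}

/-- The group generated by the perp. -/
abbrev H (D : Set G) (d : G) : Subgroup G := Subgroup.closure (perp D d)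

/-- The image of the perp in the central quotient. -/
abbrev img (D : Set G) (d : G) : Set (↥(H D d) ⧸ Subgroup.center ↥(H D d)) :=
  (QuotientGroup.mk : ↥(H D d) → _) '' {x : ↥(H D d) | (x : G) ∈ perp D d}

/-- A member commuting with a product of two commuting members commutes with both. -/
theorem commute_of_pair (hS : IsThreeTranspositionSet D) {a b x : G} (ha : a ∈ D) (hb : b ∈ D)
    (hx : x ∈ D) (hne : a ≠ b) (h : Commute x (a * b)) : Commute x a := by
  by_contra hxa
  have hxb : ¬ Commute x b := fun e => hxa (by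
    have := h.mul_right e
    rwa [mul_assoc, tt_mul_self hS hb, mul_one] at this)
  have e1 : x * (a * b) * x = a * b := by rw [h.eq, mul_assoc, tt_mul_self hS hx, mul_one]
  have e2 : x * (a * b) * x = a * (x * (a * b) * x) * b := by
    calc x * (a * b) * x = (x * a * x) * (x * b * x) := by
          simp only [← mul_assoc, mul_assoc _ x x, tt_mul_self hS hx, mul_one]
      _ = (a * x * a) * (b * x * b) := by rw [tt_braid hS hx ha hxa, tt_braid hS hx hb hxb]
      _ = _ := by simp only [mul_assoc]
  rw [e1] at e2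
  simp only [← mul_assoc, tt_mul_self hS ha, one_mul, mul_assoc, tt_mul_self hS hb, mul_one] at e2
  exact hne (by rw [eq_inv_of_mul_eq_one_left e2, tt_inv hS hb])

/-- A member commuting with a product of three commuting members commutes with each. -/
theorem commute_of_triple (hS : IsThreeTranspositionSet D) {a b c x : G} (ha : a ∈ D) (hb : b ∈ D)
    (hc : c ∈ D) (hx : x ∈ D) (hab : a ≠ b) (hac : a ≠ c) (cab : Commute a b) (cbc : Commute b c)
    (h : Commute x (a * b * c)) : Commute x a := by
  by_contra hxa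
  have key : ∀ y z : G, y ∈ D → z ∈ D → Commute x (a * z * y) → a ≠ z → Commute x y → False := by
    intro y z hy hz hc' hne hxy
    refine hxa (commute_of_pair hS ha hz hx hne ?_)
    have := hc'.mul_right hxy
    rwa [mul_assoc, tt_mul_self hS hy, mul_one] at this
  have hxc : ¬ Commute x c := key c b hc hb h hab
  have hxb : ¬ Commute x b := key b c hb hc (by rwa [mul_assoc, ← cbc.eq, ← mul_assoc]) hac
  have hx2 := tt_mul_self hS hx
  have e0 : x * (a * b) * x * (x * c * x) = a * b * c := by
    calc x * (a * b) * x * (x * c * x) = x * (a * b * c) * x := by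
          simp only [← mul_assoc, mul_assoc _ x x, hx2, mul_one]
      _ = a * b * c := by rw [h.eq, mul_assoc, hx2, mul_one]
  rw [tt_braid hS hx hc hxc] at e0
  have e1 : x * (a * b) * x = a * b * (x * c) := by
    calc x * (a * b) * x = x * (a * b) * x * (c * x * c) * (c * x * c) := by
          simp only [mul_assoc, ← mul_assoc c c, tt_mul_self hS hc, one_mul, ← mul_assoc x x, hx2,
            mul_one]
      _ = a * b * c * (c * x * c) := by rw [e0]
      _ = a * b * (x * c) := by simp only [mul_assoc, ← mul_assoc c c, tt_mul_self hS hc, one_mul]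
  have e2 : x * (a * b) * x = a * (x * (a * b) * x) * b := by
    calc x * (a * b) * x = (x * a * x) * (x * b * x) := by
          simp only [← mul_assoc, mul_assoc _ x x, hx2, mul_one]
      _ = (a * x * a) * (b * x * b) := by rw [tt_braid hS hx ha hxa, tt_braid hS hx hb hxb]
      _ = _ := by simp only [mul_assoc]
  rw [e1] at e2
  have e3 : b * (x * c) = b * (a * x * b * c) :=
    mul_left_cancel (a := a) <| by
      calc a * (b * (x * c)) = a * b * (x * c) := (mul_assoc a b _).symm
        _ = a * (a * b * (x * c)) * b := e2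
        _ = a * (b * a * (x * c) * b) := by rw [cab.eq, mul_assoc]
        _ = a * (b * (a * x * b * c)) := by simp only [mul_assoc, ← cbc.eq]
  have e4 : x = a * x * b := mul_right_cancel (mul_left_cancel e3)
  have e5 : b = a * x * a := by
    rw [← tt_braid hS hx ha hxa]
    calc b = x * a * (a * x * b) := by
          simp only [← mul_assoc, mul_assoc _ a a, tt_mul_self hS ha, mul_one, hx2, one_mul]
      _ = x * a * x := by rw [← e4]
  have e6 := cab.eq
  rw [e5] at e6
  simp only [← mul_assoc, tt_mul_self hS ha, one_mul] at e6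
  simp only [mul_assoc, tt_mul_self hS ha, mul_one] at e6
  exact hxa e6

/-- A list of commuting members with product one. -/
structure IsRel (D : Set G) (L : List G) : Prop where
  nodup : L.Nodup
  mem : ∀ x ∈ L, x ∈ D
  comm : ∀ x ∈ L, ∀ y ∈ L, Commute x y
  prod : L.prod = 1

/-- In a relation of length four the first two members have equal commuting sets. -/
theorem relV_of_four (hS : IsThreeTranspositionSet D) {L : List G} (hL : IsRel D L)
    (hlen : L.length = 4) : ∃ a ∈ D, ∃ b ∈ D, a ≠ b ∧ RelV D a b := by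
  obtain ⟨a, b, c, e, rfl⟩ := List.length_eq_four.1 hlen
  obtain ⟨hn, hm, hcm, hp⟩ := hL
  simp only [List.nodup_cons, List.mem_cons, List.not_mem_nil, or_false, not_or, List.nodup_nil,
    not_false_eq_true, and_true] at hn
  obtain ⟨⟨hab, hac, hae⟩, ⟨hbc, hbe⟩, hce⟩ := hn
  simp only [List.prod_cons, List.prod_nil, mul_one] at hp
  have ha := hm a (by simp); have hb := hm b (by simp); have hc := hm c (by simp)
  have he := hm e (by simp)
  have cab : Commute a b := hcm _ (by simp) _ (by simp)
  have cbc : Commute b c := hcm _ (by simp) _ (by simp)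
  have cac : Commute a c := hcm _ (by simp) _ (by simp)
  have cce : Commute c e := hcm _ (by simp) _ (by simp)
  have ea : a = b * c * e := by
    calc a = a * (a * (b * (c * e))) := by rw [hp, mul_one]
      _ = _ := by rw [← mul_assoc, tt_mul_self hS ha, one_mul, mul_assoc]
  have eb : b = a * c * e := by
    calc b = b * (a * (b * (c * e))) := by rw [hp, mul_one]
      _ = _ := by rw [← mul_assoc, ← cab.eq, mul_assoc, ← mul_assoc b b, tt_mul_self hS hb, one_mul, mul_assoc]
  refine ⟨a, ha, b, hb, hab, fun x hx => ⟨fun h => ?_, fun h => ?_⟩⟩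
  · exact (commute_of_triple hS hb hc he hx hbc hbe cbc cce (ea ▸ h.symm)).symm
  · exact (commute_of_triple hS ha hc he hx hac hae cac cce (eb ▸ h.symm)).symm

variable [Finite G]

/-- A generated element commuting with the generators is central. -/
theorem mem_center_closure {S : Set G} (x : ↥(Subgroup.closure S))
    (h : ∀ y ∈ S, Commute (x : G) y) : x ∈ Subgroup.center ↥(Subgroup.closure S) := by
  refine Subgroup.mem_center_iff.2 fun k => Subtype.ext ?_
  have hle : Subgroup.closure S ≤ Subgroup.centralizer {(x : G)} :=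
    (Subgroup.closure_le _).2 fun a ha => Subgroup.mem_centralizer_singleton_iff.2 (h a ha).eq.symm
  exact Subgroup.mem_centralizer_singleton_iff.1 (hle k.2)

theorem commute_of_mem_center {S : Set G} {x : ↥(Subgroup.closure S)}
    (h : x ∈ Subgroup.center ↥(Subgroup.closure S)) {y : G} (hy : y ∈ S) : Commute (x : G) y :=
  (congrArg Subtype.val (Subgroup.mem_center_iff.1 h ⟨y, Subgroup.subset_closure hy⟩)).symm

theorem conj_perp (hG : IsThreeTranspositionGroup D) {d k y : G} (hk : k ∈ H D d)
    (hy : y ∈ perp D d) : k * y * k⁻¹ ∈ perp D d := by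
  have hc : Commute d k := (Subgroup.mem_centralizer_singleton_iff.1 ((Subgroup.closure_le _).2
    (fun a ha => Subgroup.mem_centralizer_singleton_iff.2 ha.2.2.eq.symm) hk :
      k ∈ Subgroup.centralizer {d})).symm
  have hd : k * d * k⁻¹ = d := by rw [← hc.eq, mul_inv_cancel_right]
  refine ⟨hG.2.1 k y hy.1, fun e => hy.2.1 ?_, ?_⟩
  · rw [← hd] at e
    exact mul_left_cancel (mul_right_cancel e)
  · have h := commute_conj k hy.2.2
    rwa [hd] at h

/-- A member of the perp central in the group of the perp is excluded. -/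
theorem perp_noncentral (hD : IsThreeTranspositionClass D) (h2 : pCore 2 G = ⊥) {d a : G}
    (hd : d ∈ D) (ha : a ∈ perp D d) : ∃ y ∈ perp D d, ¬ Commute a y := by
  by_contra! h
  have hG := class_group hD
  have hsub : {y : G | y ∈ D ∧ Commute d y} ⊆ {y : G | y ∈ D ∧ Commute a y} := fun y hy =>
    ⟨hy.1, (Classical.em (y = d)).elim (fun e => e.symm ▸ ha.2.2.symm) (fun e => h y ⟨hy.1, e, hy.2⟩)⟩
  obtain ⟨g, hg⟩ := class_exists_conj hD hd ha.1
  have hcard : {y : G | y ∈ D ∧ Commute a y}.ncard ≤ {y : G | y ∈ D ∧ Commute d y}.ncard := by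
    refine Set.ncard_le_ncard_of_injOn (fun y => g⁻¹ * y * g) (fun y hy => ?_) ?_
    · refine ⟨by simpa using hG.2.1 g⁻¹ y hy.1, ?_⟩
      rw [← commute_conj_iff g, hg, show g * (g⁻¹ * y * g) * g⁻¹ = y by group]
      exact hy.2
    · intro y _ z _ e
      exact mul_left_cancel (mul_right_cancel e)
  have heq := Set.eq_of_subset_of_ncard_le hsub hcard
  have hV : RelV D a d := fun e he =>
    ⟨fun hc => ((Set.ext_iff.1 heq e).2 ⟨he, hc⟩).2, fun hc => ((Set.ext_iff.1 heq e).1 ⟨he, hc⟩).2⟩
  have hm := relV_mem_pCore hG ha.1 hd hV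
  rw [h2, Subgroup.mem_bot] at hm
  exact ha.2.1 (by rw [eq_inv_of_mul_eq_one_left hm, tt_inv hD.1 hd])

/-- The image of the perp is a set of 3-transpositions of the central quotient. -/
theorem img_group (hD : IsThreeTranspositionClass D) (h2 : pCore 2 G = ⊥) {d : G} (hd : d ∈ D) :
    IsThreeTranspositionGroup (img D d) := by
  have hG := class_group hD
  set π := QuotientGroup.mk' (Subgroup.center ↥(H D d))
  refine ⟨⟨?_, ?_⟩, ?_, ?_⟩
  · rintro _ ⟨a, ha, rfl⟩
    refine orderOf_eq_prime (show π a ^ 2 = 1 by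
      rw [← map_pow, show a ^ 2 = 1 from Subtype.ext (by simp [sq, tt_mul_self hD.1 ha.1]), map_one])
      fun e => ?_
    obtain ⟨y, hy, hn⟩ := perp_noncentral hD h2 hd ha
    exact hn (commute_of_mem_center ((QuotientGroup.eq_one_iff a).1 e) hy)
  · rintro _ ⟨a, ha, rfl⟩ _ ⟨b, hb, rfl⟩
    show (π a * π b) ^ 2 = 1 ∨ (π a * π b) ^ 3 = 1
    rw [← map_mul, ← map_pow, ← map_pow]
    exact (hD.1.2 _ ha.1 _ hb.1).imp
      (fun h => by rw [show (a * b) ^ 2 = 1 from Subtype.ext (by simpa using h), map_one])
      (fun h => by rw [show (a * b) ^ 3 = 1 from Subtype.ext (by simpa using h), map_one])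
  · rintro g _ ⟨a, ha, rfl⟩
    obtain ⟨k, rfl⟩ := QuotientGroup.mk_surjective g
    exact ⟨k * a * k⁻¹, conj_perp hG k.2 ha, rfl⟩
  · show Subgroup.closure (π '' _) = ⊤
    rw [← MonoidHom.map_closure, show Subgroup.closure {x : ↥(H D d) | (x : G) ∈ perp D d} = ⊤ from
      Subgroup.closure_closure_coe_preimage, ← MonoidHom.range_eq_map,
      MonoidHom.range_eq_top.2 (QuotientGroup.mk'_surjective _)]

/-- One orbit on the perp gives one class in the central quotient. -/
theorem img_class (hD : IsThreeTranspositionClass D) (h2 : pCore 2 G = ⊥) {d : G} (hd : d ∈ D)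
    (hne : (perp D d).Nonempty)
    (horb : ∀ a ∈ perp D d, ∀ b ∈ perp D d, ∃ k ∈ H D d, k * a * k⁻¹ = b) :
    IsThreeTranspositionClass (img D d) := by
  obtain ⟨hS, hconj, hgen⟩ := img_group hD h2 hd
  obtain ⟨a, ha⟩ := hne
  refine ⟨hS, ⟨_, ⟨⟨a, Subgroup.subset_closure ha⟩, ha, rfl⟩, Set.ext fun x => ⟨?_, fun hx => ?_⟩⟩, hgen⟩
  · rintro ⟨b, hb, rfl⟩
    obtain ⟨k, hk, e⟩ := horb a ha b hb
    exact (QuotientGroup.mk' (Subgroup.center ↥(H D d))).map_isConj
      (isConj_iff.2 ⟨(⟨k, hk⟩ : ↥(H D d)), Subtype.ext e⟩)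
  · obtain ⟨g, rfl⟩ := isConj_iff.1 hx
    exact hconj g _ ⟨⟨a, Subgroup.subset_closure ha⟩, ha, rfl⟩

/-- A relation descends to the central quotient of the perp of any member. -/
theorem descend (hD : IsThreeTranspositionClass D) (h2 : pCore 2 G = ⊥) {d : G} (hd : d ∈ D)
    {L : List G} (hL : IsRel D L) {k : ℕ} (hlen : L.length = k + 1) :
    ∃ L' : List (↥(H D d) ⧸ Subgroup.center ↥(H D d)), IsRel (img D d) L' ∧ L'.length = k := by
  have hG := class_group hD
  obtain ⟨a, T, rfl⟩ := List.exists_cons_of_length_eq_add_one hlen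
  obtain ⟨g, hg⟩ := class_exists_conj hD (hL.mem a (by simp)) hd
  set f := (MulAut.conj g).toMonoidHom with hf
  have hfi : Function.Injective f := (MulAut.conj g).injective
  set T' := T.map f
  have hn : (d :: T').Nodup := by
    have := hL.nodup.map hfi
    rwa [List.map_cons, show f a = d from hg] at this
  have hp : d * T'.prod = 1 := by
    have := congrArg f hL.prod
    rwa [map_list_prod, map_one, List.map_cons, List.prod_cons, show f a = d from hg] at this
  have hT : ∀ x ∈ T', x ∈ perp D d := by
    intro x hx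
    obtain ⟨y, hy, rfl⟩ := List.mem_map.1 hx
    refine ⟨hG.2.1 g y (hL.mem y (List.mem_cons_of_mem _ hy)), fun e => ?_, ?_⟩
    · exact (List.nodup_cons.1 hn).1 (e ▸ hx)
    · rw [← hg]
      exact commute_conj g (hL.comm a (by simp) y (List.mem_cons_of_mem _ hy))
  let S : List ↥(H D d) := T'.pmap (fun x hx => ⟨x, Subgroup.subset_closure hx⟩) hT
  have hSv : S.map Subtype.val = T' := by
    simp only [S, List.map_pmap]
    exact (List.pmap_eq_map (f := fun x : G => x) hT).trans (List.map_id _)
  have hSm : ∀ x ∈ S, (x : G) ∈ perp D d := fun x hx => hT _ (hSv ▸ List.mem_map_of_mem hx)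
  have hSc : ∀ x ∈ S, ∀ y ∈ S, Commute (x : G) y := by
    intro x hx y hy
    obtain ⟨u, hu, eu⟩ := List.mem_map.1 (hSv ▸ List.mem_map_of_mem hx : (x : G) ∈ T')
    obtain ⟨v, hv, ev⟩ := List.mem_map.1 (hSv ▸ List.mem_map_of_mem hy : (y : G) ∈ T')
    rw [← eu, ← ev]
    exact (hL.comm u (List.mem_cons_of_mem _ hu) v (List.mem_cons_of_mem _ hv)).map f
  set π := QuotientGroup.mk' (Subgroup.center ↥(H D d))
  refine ⟨S.map π, ⟨List.Nodup.map_on ?_ ?_, ?_, ?_, ?_⟩, ?_⟩
  · intro x hx y hy e
    by_contra hne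
    have hxy : (x : G) ≠ y := fun h => hne (Subtype.ext h)
    have hz : x * y ∈ Subgroup.center ↥(H D d) := by
      have h := QuotientGroup.eq.1 e
      rwa [show x⁻¹ = x from Subtype.ext (tt_inv hD.1 (hSm x hx).1)] at h
    obtain ⟨z, hz', hn'⟩ := perp_noncentral hD h2 hd (hSm x hx)
    exact hn' (commute_of_pair hD.1 (hSm x hx).1 (hSm y hy).1 hz'.1 hxy
      (commute_of_mem_center hz hz').symm).symm
  · exact List.Nodup.of_map Subtype.val (hSv ▸ (List.nodup_cons.1 hn).2)
  · intro x hx
    obtain ⟨y, hy, rfl⟩ := List.mem_map.1 hx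
    exact ⟨y, hSm y hy, rfl⟩
  · intro x hx y hy
    obtain ⟨u, hu, rfl⟩ := List.mem_map.1 hx
    obtain ⟨v, hv, rfl⟩ := List.mem_map.1 hy
    exact (show Commute u v from Subtype.ext (hSc u hu v hv)).map π
  · rw [← map_list_prod]
    refine (QuotientGroup.eq_one_iff _).2 (mem_center_closure _ fun y hy => ?_)
    have e : ((S.prod : ↥(H D d)) : G) = d := by
      rw [← Subgroup.coe_subtype, map_list_prod, Subgroup.coe_subtype, hSv,
        eq_inv_of_mul_eq_one_right hp, tt_inv hD.1 hd]
    rw [e]
    exact hy.2.2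
  · simp only [S, T', List.length_map, List.length_pmap]
    simpa using hlen

end Cfsg.Agent.Fischer3Rel
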