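import Cfsg.Agent.Lib.BigExtra.Refl3

/-!
# The projective reflection group of six dimensions is not simple
-/

set_option autoImplicit false
set_option linter.unusedSectionVars false

open scoped Matrix

namespace Cfsg.Agent.Fischer3Rel

open Cfsg FormsLib QuadraticMap BigExtra.Refl3

variable {n : ℕ} {Q : QuadraticForm (ZMod 3) (Fin n → ZMod 3)} {c : ZMod 3}

local notation "W" => (Fin n → ZMod 3)

/-- The vectors of norm `c` span the space. -/
theorem norm_span (hc : c ≠ 0) (hn : 5 ≤ n) (hQ : (polarBilin Q).Nondegenerate) (S : Submodule (ZMod 3) W)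
    (hS : ∀ v, Q v = c → v ∈ S) : S = ⊤ := by
  obtain ⟨u, hu⟩ := OrthRows.exists_norm_all (Q := Q) hQ (by rw [Fintype.card_fin]; omega) hc
  obtain ⟨hW, hd⟩ := line_orth hc hn hQ (u := u) (hu ▸ hc)
  set U := LinearMap.BilinForm.orthogonal (polarBilin Q) (Submodule.span (ZMod 3) {u})
  have hU : ∀ y ∈ U, y ∈ S := by
    intro y hy
    have huy : polar Q u y = 0 := (mem_line_orth hn hQ).1 hy
    rcases (show ∀ t c : ZMod 3, c ≠ 0 → t = c ∨ t = 0 ∨ t = -c by decide) (Q y) c hc with h | h | h
    · exact hS y h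
    · have h1 := hS (u + y) (by rw [quad_add, huy, h, hu, add_zero, add_zero])
      simpa using S.sub_mem h1 (hS u hu)
    · have hQy : Q y ≠ 0 := by rw [h]; exact neg_ne_zero.2 hc
      have hd' := finrank_cut U ((polarBilin Q).flip y)
      obtain ⟨z, hz, hQz⟩ := Spinor.exists_norm (Q := Q) (cut hW hy hQy) (Or.inl (by omega)) hc
      have huz : polar Q u z = 0 := (mem_line_orth hn hQ).1 hz.1
      have hyz : polar Q y z = 0 := by rw [polar_comm]; exact Spinor.mem_ker_polar.1 hz.2
      have h1 := hS (u + (y + z)) (by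
        rw [quad_add, quad_add, polar_add_right, huy, huz, hyz, hu, h, hQz]; ring)
      simpa using S.sub_mem (S.sub_mem h1 (hS u hu)) (hS z hQz)
  refine eq_top_iff.2 fun x _ => ?_
  have hx : x - (polar Q x u / (2 * Q u)) • u ∈ U := (mem_line_orth hn hQ).2 (by
    rw [polar_sub_right, polar_smul_right, polar_self', smul_eq_mul,
      div_mul_cancel₀ _ (mul_ne_zero (by decide) (hu ▸ hc)), polar_comm, sub_self])
  simpa using S.add_mem (hU _ hx) (S.smul_mem (polar Q x u / (2 * Q u)) (hS u hu))

/-- A central element of the reflection group is a scalar. -/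
theorem center_scalar (hc : c ≠ 0) (hn : 5 ≤ n) (hQ : (polarBilin Q).Nondegenerate)
    {z : reflectionSubgroup (⇑Q) c} (hz : z ∈ Subgroup.center ↥(reflectionSubgroup (⇑Q) c)) :
    ∃ t : ZMod 3, t ^ 2 = 1 ∧ ∀ x, (op z).1 x = t • x := by
  have hsign : ∀ v (hv : Q v = c), (op z).1 v = v ∨ (op z).1 v = -v := by
    intro v hv
    by_contra! h
    have h1 := conj_ref hc z hv
    rw [← Subgroup.mem_center_iff.1 hz, mul_inv_cancel_right] at h1
    have hv' : Q ((op z).1 v) = c := ((op z).2 v).trans hv
    have := congrArg (fun g => (op g).1 v) h1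
    simp only [ref_apply, polar_self', hv] at this
    set w := (op z).1 v
    rw [sub_right_inj] at this
    have hk : c⁻¹ * (2 * c) ≠ 0 := mul_ne_zero (inv_ne_zero hc) (mul_ne_zero (by decide) hc)
    rcases (show ∀ t : ZMod 3, t = 0 ∨ t = 1 ∨ t = -1 by decide) (c⁻¹ * polar Q v w) with e | e | e <;>
      rcases (show ∀ t : ZMod 3, t ≠ 0 → t = 1 ∨ t = -1 by decide) _ hk with f | f <;>
      rw [e, f] at this <;> simp only [one_smul, zero_smul, neg_smul, neg_eq_zero] at this
    · exact absurd hv (by rw [this, QuadraticMap.map_zero]; exact fun a => hc a.symm)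
    · exact absurd hv (by rw [this, QuadraticMap.map_zero]; exact fun a => hc a.symm)
    · exact h.1 this.symm
    · exact h.2 this.symm
    · exact h.2 (by rw [this, neg_neg])
    · exact h.1 (neg_inj.1 this).symm
  obtain ⟨u, hu⟩ := OrthRows.exists_norm_all (Q := Q) hQ (by rw [Fintype.card_fin]; omega) hc
  obtain ⟨t, ht, htu⟩ : ∃ t : ZMod 3, t ^ 2 = 1 ∧ (op z).1 u = t • u := by
    rcases hsign u hu with h | h
    · exact ⟨1, one_pow 2, by rw [one_smul, h]⟩
    · exact ⟨-1, neg_one_sq, by rw [neg_one_smul, h]⟩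
  refine ⟨t, ht, fun x => ?_⟩
  let S : Submodule (ZMod 3) W :=
    LinearMap.ker ((op z).1.toLinearMap - t • (LinearMap.id : W →ₗ[ZMod 3] W))
  have hmem : ∀ y, y ∈ S ↔ (op z).1 y = t • y := fun y => by
    show ((op z).1.toLinearMap - t • (LinearMap.id : W →ₗ[ZMod 3] W)) y = 0 ↔ _
    simp [sub_eq_zero]
  refine (hmem x).1 ((norm_span hc hn hQ S fun v hv => (hmem v).2 ?_).ge Submodule.mem_top)
  obtain ⟨g, hg⟩ := exists_conj_ref hc hn hQ hu hv
  rw [conj_ref hc g hu] at hg
  have hcm : (op z).1 ((op g).1 u) = (op g).1 ((op z).1 u) := by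
    have e : op z * op g = op g * op z := by
      rw [← op_mul, ← op_mul, ← Subgroup.mem_center_iff.1 hz g]
    exact congrArg (fun f : oGroup Q => f.1 u) e
  rw [htu, map_smul] at hcm
  have hgu : Q ((op g).1 u) = c := ((op g).2 u).trans hu
  by_cases h : v = (op g).1 u ∨ v = -(op g).1 u
  · rcases h with rfl | rfl
    · exact hcm
    · rw [map_neg, hcm, smul_neg]
  · have := congrArg (fun f => (op f).1 v) hg
    simp only [ref_apply, polar_self', hv] at this
    rw [sub_right_inj] at this
    push Not at h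
    have hk : c⁻¹ * (2 * c) ≠ 0 := mul_ne_zero (inv_ne_zero hc) (mul_ne_zero (by decide) hc)
    rcases (show ∀ t : ZMod 3, t = 0 ∨ t = 1 ∨ t = -1 by decide)
        (c⁻¹ * polar Q v ((op g).1 u)) with e | e | e <;>
      rcases (show ∀ t : ZMod 3, t ≠ 0 → t = 1 ∨ t = -1 by decide) _ hk with f | f <;>
      rw [e, f] at this <;> simp only [one_smul, zero_smul, neg_smul, neg_eq_zero] at this
    · exact absurd hv (by rw [← this, QuadraticMap.map_zero]; exact fun a => hc a.symm)
    · exact absurd hv (by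
        rw [show v = 0 from neg_eq_zero.1 this.symm, QuadraticMap.map_zero]; exact fun a => hc a.symm)
    · exact absurd this.symm h.1
    · exact absurd (by rw [this, neg_neg] : v = -(op g).1 u) h.2
    · exact absurd this.symm h.2
    · exact absurd (neg_inj.1 this).symm h.1

/-- The reflection group modulo its centre is not simple. -/
theorem refl_six_not_simple {Q : QuadraticForm (ZMod 3) (Fin 6 → ZMod 3)} (hc : c ≠ 0)
    (hQ : (polarBilin Q).Nondegenerate)
    (h : IsSimpleGroup (↥(reflectionSubgroup (⇑Q) c) ⧸ Subgroup.center ↥(reflectionSubgroup (⇑Q) c))) :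
    False := by
  have hn : 5 ≤ 6 := by norm_num
  set R := ↥(reflectionSubgroup (⇑Q) c)
  let δ : R →* (ZMod 3)ˣ := Matrix.GeneralLinearGroup.det.comp
    ((Cfsg.isometryGroup (ZMod 3) ⇑Q).subtype.comp (reflectionSubgroup (⇑Q) c).subtype)
  obtain ⟨v, hv⟩ := OrthRows.exists_norm_all (Q := Q) hQ (by rw [Fintype.card_fin]; omega) hc
  have hδ : δ (ref v hv hc) = -1 := OrthRows.det_rf _
  set π := QuotientGroup.mk' (Subgroup.center R)
  haveI := h
  rcases Subgroup.Normal.eq_bot_or_eq_top
      (show (δ.ker.map π).Normal from Subgroup.Normal.map inferInstance π (QuotientGroup.mk'_surjective _))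
    with e | e
  · -- all products of two reflections would be central
    obtain ⟨a, ha, b, hb, hne, hab⟩ := exists_ne_comm hc hn hQ
    obtain ⟨u, hu, rfl⟩ := exists_ref hc ha
    obtain ⟨w, hw, rfl⟩ := exists_ref hc hb
    have hk : ref u hu hc * ref w hw hc ∈ δ.ker := by
      rw [MonoidHom.mem_ker, map_mul,
        show δ (ref u hu hc) = -1 from OrthRows.det_rf _,
        show δ (ref w hw hc) = -1 from OrthRows.det_rf _]
      simp
    have hz : ref u hu hc * ref w hw hc ∈ Subgroup.center R := by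
      have := Subgroup.mem_map_of_mem π hk
      rw [e, Subgroup.mem_bot] at this
      exact (QuotientGroup.eq_one_iff _).1 this
    obtain ⟨t, ht, hop⟩ := center_scalar hc hn hQ hz
    have h1 := hop u
    obtain ⟨h2, h3⟩ := ref_ne hc hn hQ hu hw hne
    have hp : polar Q u w = 0 :=
      (commute_iff hc hu hw (fun e => h2 e.symm) (fun e => h3 (by rw [e, neg_neg]))).1 hab
    rw [op_mul] at h1
    change (op (ref u hu hc)).1 ((op (ref w hw hc)).1 u) = _ at h1
    rw [ref_apply hc hw, hp, mul_zero, zero_smul, sub_zero, ref_apply, polar_self', hu] at h1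
    have hw1 := hop w
    rw [op_mul] at hw1
    change (op (ref u hu hc)).1 ((op (ref w hw hc)).1 w) = _ at hw1
    obtain ⟨W', hd⟩ := line_orth hc hn hQ (u := u) (hu ▸ hc)
    have hwU := (mem_line_orth (u := u) (x := w) hn hQ).2 hp
    have hd' := finrank_cut (LinearMap.BilinForm.orthogonal (polarBilin Q)
      (Submodule.span (ZMod 3) {u})) ((polarBilin Q).flip w)
    obtain ⟨x, hx, hQx⟩ := Spinor.exists_norm (Q := Q) (cut W' hwU (hw ▸ hc)) (Or.inl (by omega)) hc
    have hux : polar Q x u = 0 := by rw [polar_comm]; exact (mem_line_orth hn hQ).1 hx.1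
    have hwx : polar Q x w = 0 := Spinor.mem_ker_polar.1 hx.2
    have hx1 := hop x
    rw [op_mul] at hx1
    change (op (ref u hu hc)).1 ((op (ref w hw hc)).1 x) = _ at hx1
    rw [ref_apply hc hw, hwx, mul_zero, zero_smul, sub_zero, ref_apply, hux, mul_zero, zero_smul,
      sub_zero] at hx1
    have ht1 : t = 1 := by
      have := smul_left_injective (ZMod 3) (fun e : x = 0 => hc (by rw [← hQx, e, QuadraticMap.map_zero]))
        (show (1 : ZMod 3) • x = t • x by rw [one_smul]; exact hx1)
      exact this.symm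
    rw [ht1, one_smul, sub_eq_self] at h1
    exact (smul_eq_zero.1 h1).elim (mul_ne_zero (inv_ne_zero hc) (mul_ne_zero (by decide) hc))
      (fun e => hc (by rw [← hu, e, QuadraticMap.map_zero]))
  · obtain ⟨k, hk, hkv⟩ := e.ge (Subgroup.mem_top (π (ref v hv hc)))
    obtain ⟨t, ht, hop⟩ := center_scalar hc hn hQ (QuotientGroup.eq.1 hkv)
    set z := k⁻¹ * ref v hv hc
    have hM : (z.1.1 : Matrix (Fin 6) (Fin 6) (ZMod 3)) = t • 1 := by
      refine Matrix.ext_iff_mulVec.2 fun x => ?_
      rw [Matrix.smul_mulVec, Matrix.one_mulVec, ← hop x]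
      rfl
    have hz1 : δ z = 1 := by
      ext
      simp only [δ, MonoidHom.comp_apply, Subgroup.coe_subtype, Matrix.GeneralLinearGroup.val_det_apply]
      erw [Subgroup.coe_subtype]
      rw [hM, Matrix.det_smul, Matrix.det_one, mul_one, Fintype.card_fin,
        show t ^ 6 = (t ^ 2) ^ 3 by ring, ht, one_pow, Units.val_one]
    rw [map_mul, map_inv, MonoidHom.mem_ker.1 hk, inv_one, one_mul, hδ] at hz1
    exact absurd (show (-1 : ZMod 3) = 1 from congrArg Units.val hz1) (by decide)

end Cfsg.Agent.Fischer3Rel
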