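import Cfsg.Agent.Lib.Fischer3Rel.Perp
import Cfsg.Agent.Lib.Fischer3Rel.Refl
import Cfsg.Agent.Lib.Basics.Cores
import Cfsg.Agent.S0283

/-!
# No short relations in the groups of type M23 and M24
-/

set_option autoImplicit false
set_option linter.unusedSectionVars false

namespace Cfsg.Agent.Fischer3Rel

open Cfsg ClassK Fischer3

universe u

variable {G : Type u} [Group G] [Finite G] {D : Set G}

theorem simple_psu {F : Type} [Field F] [Fintype F] (hF : Fintype.card F = 4) :
    IsSimpleGroup (Cfsg.PSU 6 F 2) :=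
  S0283.result (by simpa using hF) 6 (by norm_num) (by norm_num)

/-- A simple central quotient of the group of the perp has trivial 2-core and is not trivial. -/
theorem simple_quot (hS : IsThreeTranspositionSet D) {d : G}
    (hs : IsSimpleGroup (↥(H D d) ⧸ Subgroup.center ↥(H D d))) :
    (∃ q ∈ perp D d, ∃ r ∈ perp D d, ¬ Commute q r) ∧
      pCore 2 (↥(H D d) ⧸ Subgroup.center ↥(H D d)) = ⊥ := by
  haveI := hs
  set π := QuotientGroup.mk' (Subgroup.center ↥(H D d))
  obtain ⟨q, hq, r, hr, hqr⟩ : ∃ q ∈ perp D d, ∃ r ∈ perp D d, ¬ Commute q r := by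
    by_contra! h
    obtain ⟨x, y, hxy⟩ := exists_pair_ne (↥(H D d) ⧸ Subgroup.center ↥(H D d))
    have hone : ∀ g, π g = 1 := fun g => (QuotientGroup.eq_one_iff g).2 <| by
      refine mem_center_closure g fun y hy => ?_
      have hle : H D d ≤ Subgroup.centralizer {y} := (Subgroup.closure_le _).2 fun a ha =>
        Subgroup.mem_centralizer_singleton_iff.2 (h a ha y hy).eq
      exact Subgroup.mem_centralizer_singleton_iff.1 (hle g.2)
    obtain ⟨x, rfl⟩ := QuotientGroup.mk'_surjective _ x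
    obtain ⟨y, rfl⟩ := QuotientGroup.mk'_surjective _ y
    exact hxy ((hone x).trans (hone y).symm)
  refine ⟨⟨q, hq, r, hr, hqr⟩, ?_⟩
  rcases Subgroup.Normal.eq_bot_or_eq_top (Basics.pCore_normal (G := ↥(H D d) ⧸ Subgroup.center ↥(H D d)) 2)
    with e | e
  · exact e
  exfalso
  haveI : Fact (Nat.Prime 2) := ⟨Nat.prime_two⟩
  set a : ↥(H D d) := ⟨q, Subgroup.subset_closure hq⟩
  set b : ↥(H D d) := ⟨r, Subgroup.subset_closure hr⟩
  have h3 : π (a * b) ^ 3 = 1 := by
    rw [← map_pow, show (a * b) ^ 3 = 1 from Subtype.ext (by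
      simpa [a, b] using tt_noncommute_cube hS hq.1 hr.1 hqr), map_one]
  obtain ⟨k, hk⟩ := Basics.pCore_isPGroup (G := ↥(H D d) ⧸ Subgroup.center ↥(H D d)) 2
    ⟨π (a * b), e ▸ Subgroup.mem_top _⟩
  have h1 : π (a * b) ^ 2 ^ k = 1 := congrArg Subtype.val hk
  have h0 : π (a * b) = 1 := by
    have := pow_gcd_eq_one.2 ⟨h1, h3⟩
    rwa [(Nat.Coprime.pow_left k (by norm_num : Nat.Coprime 2 3)).gcd_eq_one, pow_one] at this
  refine hqr ?_
  have hc := commute_of_mem_center ((QuotientGroup.eq_one_iff _).1 h0) hq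
  change Commute (q * r) q at hc
  have h := hc.eq
  rw [mul_assoc] at h
  exact (mul_left_cancel h).symm

/-- In a group of type M22 no two members have equal commuting sets. -/
theorem m22_relV (hG : IsThreeTranspositionGroup D) (hM : IsOfTypeM22 G D) {a b : G} (ha : a ∈ D)
    (hb : b ∈ D) (hne : a ≠ b) (hV : RelV D a b) : False := by
  obtain ⟨hZ, w, hw, c, hc, hwc, ⟨F, _, _, hF, ⟨eP⟩⟩, c₃, hc₃, Q, hQ, -, ⟨eL⟩⟩ := hM
  haveI := simple_psu hF
  have hsimp : IsSimpleGroup (↥(H D w) ⧸ Subgroup.center ↥(H D w)) := eP.isSimpleGroup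
  obtain ⟨⟨q, hq, r, hr, hqr⟩, hP2⟩ := simple_quot hG.1 hsimp
  set π := QuotientGroup.mk' (Subgroup.center ↥(H D w))
  have K : ∀ y ∈ perp D w, ∀ z ∈ perp D w, ¬ Commute y z → ∀ v ∈ D, RelV D y v → v = y := by
    intro y hy z hz hyz v hv hyv
    by_contra hvy
    have hvw : v ≠ w := fun e => hyz ((hyv z hz.1).2 (e ▸ hz.2.2))
    have hvp : v ∈ perp D w := ⟨hv, hvw, ((hyv w hw).1 hy.2.2.symm).symm⟩
    let yv : ↥(H D w) := ⟨y * v, mul_mem (Subgroup.subset_closure hy) (Subgroup.subset_closure hvp)⟩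
    have hmem : yv ∈ (pCore 2 G).subgroupOf (H D w) := relV_mem_pCore hG hy.1 hv hyv
    have hle : ((pCore 2 G).subgroupOf (H D w)).map π ≤ ⊥ := hP2 ▸ Components.le_pCore
      (((Basics.pCore_normal (G := G) 2).subgroupOf _).map π (QuotientGroup.mk'_surjective _))
      (((Basics.pCore_isPGroup (G := G) 2).comap_of_injective _ (H D w).subtype_injective).map π)
    have hz' := (QuotientGroup.eq_one_iff yv).1 (Subgroup.mem_bot.1 (hle (Subgroup.mem_map_of_mem π hmem)))
    exact hyz (commute_of_pair hG.1 hy.1 hv hz.1 (Ne.symm hvy) (commute_of_mem_center hz' hz).symm).symm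
  have hrel : ∀ g x y : G, RelV D x y → RelV D (g * x * g⁻¹) (g * y * g⁻¹) := by
    intro g x y h e he
    obtain ⟨e', he', rfl⟩ := conj_rel_transfer hG g he
    rw [commute_conj_iff, commute_conj_iff]
    exact h e' he'
  -- every member conjugate to `a` outside `w` is central in the perp of `w`
  have hcent : ∀ g : G, g * a * g⁻¹ ∈ perp D w → ∀ z ∈ perp D w, Commute (g * a * g⁻¹) z := by
    intro g hg z hz
    by_contra hn
    refine hne (mul_left_cancel (mul_right_cancel
      (K _ hg z hz hn (g * b * g⁻¹) (hG.2.1 g b hb) (hrel g a b hV)).symm))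
  have braidc : ∀ x y : G, x ∈ D → y ∈ D → ¬ Commute x y → y = (x * y) * x * (x * y)⁻¹ := by
    intro x y hx hy hn
    rw [mul_inv_rev, tt_inv hG.1 hx, tt_inv hG.1 hy]
    calc y = (x * x) * y * (x * x) := by rw [tt_mul_self hG.1 hx, one_mul, mul_one]
      _ = x * (x * y * x) * x := by simp only [mul_assoc]
      _ = x * (y * x * y) * x := by rw [tt_braid hG.1 hx hy hn]
      _ = _ := by simp only [mul_assoc]
  obtain ⟨g₀, hg₀⟩ : ∃ g, g * a * g⁻¹ = w := by
    by_contra! hno
    obtain ⟨z, hz, haz⟩ : ∃ z ∈ D, ¬ Commute a z := by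
      by_contra! h
      have hac : a ∈ Subgroup.center G := by
        refine Subgroup.mem_center_iff.2 fun g => ?_
        have hle : Subgroup.closure D ≤ Subgroup.centralizer {a} :=
          (Subgroup.closure_le _).2 fun y hy => Subgroup.mem_centralizer_singleton_iff.2 (h y hy).eq.symm
        exact Subgroup.mem_centralizer_singleton_iff.1 (hle (hG.2.2 ▸ Subgroup.mem_top g))
      rw [hZ, Subgroup.mem_bot] at hac
      exact Invol.ne_one_of_orderOf_two (hG.1.1 a ha) hac
    have hall : ∀ g, g * a * g⁻¹ ∈ perp D w := fun g => ⟨hG.2.1 g a ha, hno g, by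
      by_contra h
      refine hno (g * a * g⁻¹ * w * g) ?_
      calc _ = g * a * g⁻¹ * w * (g * a * g⁻¹) * (g * a * g⁻¹ * w)⁻¹ := by group
        _ = w := (braidc _ _ (hG.2.1 g a ha) hw (fun e => h e.symm)).symm⟩
    have hza : z ∈ perp D w := by
      rw [braidc a z ha hz haz]
      exact hall _
    exact haz (by simpa using hcent 1 (hall 1) z hza)
  have hconjw : ∀ y ∈ perp D w, ¬ (∀ z ∈ perp D w, Commute y z) → y ∈ perp D c := by
    intro y hy hn
    have hnc : ∀ g, g * a * g⁻¹ ≠ y := fun g e => hn fun z hz => e ▸ hcent g (e.symm ▸ hy) z hz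
    obtain ⟨h, hh⟩ : ∃ h, h * w * h⁻¹ = c := ⟨w * c, (braidc w c hw hc hwc).symm⟩
    refine ⟨hy.1, fun e => hnc (h * g₀) ?_, ?_⟩
    · rw [e, ← hh, ← hg₀]; group
    · by_contra hn'
      refine hnc ((c * y) * (h * g₀)) ?_
      rw [show c * y * (h * g₀) * a * (c * y * (h * g₀))⁻¹ =
        c * y * (h * (g₀ * a * g₀⁻¹) * h⁻¹) * (c * y)⁻¹ by group, hg₀, hh]
      exact (braidc c y hc hy.1 hn').symm
  -- so the group of the common perp covers the simple quotient
  set L := Subgroup.closure ({y : G | y ∈ D ∧ y ≠ w ∧ Commute w y} ∩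
    {y : G | y ∈ D ∧ y ≠ c ∧ Commute c y}) with hLdef
  have hLH : L ≤ H D w := Subgroup.closure_mono Set.inter_subset_left
  let φ : ↥L →* ↥(H D w) ⧸ Subgroup.center ↥(H D w) := π.comp (Subgroup.inclusion hLH)
  have hφ : Function.Surjective φ := by
    rw [← MonoidHom.range_eq_top, eq_top_iff]
    rintro x -
    obtain ⟨⟨x, hx⟩, rfl⟩ := QuotientGroup.mk'_surjective _ x
    induction hx using Subgroup.closure_induction with
    | mem y hy =>
      by_cases h : ∀ z ∈ perp D w, Commute y z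
      · exact ⟨1, by rw [map_one]; exact ((QuotientGroup.eq_one_iff _).2 (mem_center_closure _ h)).symm⟩
      · exact ⟨⟨y, Subgroup.subset_closure ⟨hy, hconjw y hy h⟩⟩, rfl⟩
    | one => exact ⟨1, by rw [map_one]; exact (map_one π).symm⟩
    | mul y z hy hz ihy ihz =>
      have e : π ⟨y * z, mul_mem hy hz⟩ = π ⟨y, hy⟩ * π ⟨z, hz⟩ := map_mul π ⟨y, hy⟩ ⟨z, hz⟩
      rw [e]; exact mul_mem ihy ihz
    | inv y hy ihy =>
      have e : π ⟨y⁻¹, inv_mem hy⟩ = (π ⟨y, hy⟩)⁻¹ := map_inv π ⟨y, hy⟩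
      rw [e]; exact inv_mem ihy
  have hker : φ.ker = Subgroup.center ↥L := by
    ext x
    constructor
    · intro h
      refine mem_center_closure x fun y hy => ?_
      exact commute_of_mem_center (x := Subgroup.inclusion hLH x)
        ((QuotientGroup.eq_one_iff _).1 h) hy.1
    · intro h
      refine (QuotientGroup.eq_one_iff _).2 (mem_center_closure _ fun y hy => ?_)
      by_cases h' : ∀ z ∈ perp D w, Commute y z
      · exact (Subgroup.mem_centralizer_singleton_iff.1 ((Subgroup.closure_le _).2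
          (fun z hz => Subgroup.mem_centralizer_singleton_iff.2 (h' z hz).eq.symm) (hLH x.2) :
            (x : G) ∈ Subgroup.centralizer {y}))
      · exact commute_of_mem_center h ⟨hy, hconjw y hy h'⟩
  haveI := hsimp
  have eLP : (↥L ⧸ Subgroup.center ↥L) ≃* (↥(H D w) ⧸ Subgroup.center ↥(H D w)) :=
    (QuotientGroup.quotientMulEquivOfEq hker.symm).trans
      (QuotientGroup.quotientKerEquivOfSurjective φ hφ)
  haveI := eLP.isSimpleGroup
  exact refl_six_not_simple hc₃ hQ eL.symm.isSimpleGroup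

/-- No relations of length five in the groups of type M22. -/
theorem m22_five (hD : IsThreeTranspositionClass D) (h2 : pCore 2 G = ⊥) (hM : IsOfTypeM22 G D)
    {L : List G} (hL : IsRel D L) (hlen : L.length = 5) : False := by
  obtain ⟨-, w, hw, c, hc, -, ⟨F, _, _, hF, ⟨eP⟩⟩, -⟩ := hM
  haveI := simple_psu hF
  obtain ⟨L', hL', hlen'⟩ := descend hD h2 hw hL hlen
  have hG' := img_group hD h2 hw
  obtain ⟨a, ha, b, hb, hne, hV⟩ := relV_of_four hG'.1 hL' hlen'
  have := relV_mem_pCore hG' ha hb hV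
  rw [(simple_quot hD.1 eP.isSimpleGroup).2, Subgroup.mem_bot] at this
  exact hne (by rw [eq_inv_of_mul_eq_one_left this, tt_inv hG'.1 hb])

/-- No relations of length five in the groups of type M23. -/
theorem m23_five (hD : IsThreeTranspositionClass D) (h2 : pCore 2 G = ⊥) (hM : IsOfTypeM23 G D)
    {L : List G} (hL : IsRel D L) (hlen : L.length = 5) : False := by
  obtain ⟨-, w, hw, c, hc, -, hT, -⟩ := hM
  obtain ⟨L', hL', hlen'⟩ := descend hD h2 hw hL hlen
  have hG' := img_group hD h2 hw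
  obtain ⟨a, ha, b, hb, hne, hV⟩ := relV_of_four hG'.1 hL' hlen'
  exact m22_relV hG' hT ha hb hne hV

end Cfsg.Agent.Fischer3Rel
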