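import Cfsg.Agent.Lib.Fischer3Rel.Levels

/-!
# Uniqueness of short products of commuting transpositions
-/

set_option autoImplicit false
set_option linter.unusedSectionVars false

namespace Cfsg.Agent.Fischer3Rel

open Cfsg ClassK Fischer3

universe u

variable {G : Type u} [Group G] [Finite G] {D : Set G}

/-- The 2-core condition on one member passes to every member. -/
theorem core_transport (hG : IsThreeTranspositionGroup D) (g : G) {d₀ : G}
    (h : pCore 2 ↥(H D d₀) ≤ Subgroup.center ↥(H D d₀)) :
    pCore 2 ↥(H D (g * d₀ * g⁻¹)) ≤ Subgroup.center ↥(H D (g * d₀ * g⁻¹)) := by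
  let e : ↥(H D d₀) ≃* ↥(H D (g * d₀ * g⁻¹)) :=
    ((H D d₀).equivMapOfInjective (MulAut.conj g).toMonoidHom (MulAut.conj g).injective).trans
      (MulEquiv.subgroupCongr (H_conj hG g d₀))
  intro x hx
  rw [← Components.map_pCore_equiv e] at hx
  obtain ⟨y, hy, rfl⟩ := hx
  refine Subgroup.mem_center_iff.2 fun z => ?_
  have := congrArg e (Subgroup.mem_center_iff.1 (h hy) (e.symm z))
  simpa using this

/-- The quotient by a central subgroup containing the 2-core has trivial 2-core. -/
theorem pCore_quot_center {K : Type u} [Group K] [Finite K] (h : pCore 2 K ≤ Subgroup.center K) :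
    pCore 2 (K ⧸ Subgroup.center K) = ⊥ := by
  haveI : Fact (Nat.Prime 2) := ⟨Nat.prime_two⟩
  set π := QuotientGroup.mk' (Subgroup.center K)
  set P := (pCore 2 (K ⧸ Subgroup.center K)).comap π with hP
  refine (Subgroup.eq_bot_iff_forall _).2 fun x hx => ?_
  obtain ⟨x, rfl⟩ := QuotientGroup.mk'_surjective _ x
  haveI : Group.IsNilpotent P := by
    haveI : (pCore 2 (K ⧸ Subgroup.center K)).Normal := inferInstance
    haveI : Group.IsNilpotent (pCore 2 (K ⧸ Subgroup.center K)) :=
      (Basics.pCore_isPGroup 2).isNilpotent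
    refine Subgroup.isNilpotent_of_ker_le_center (π.subgroupComap (pCore 2 (K ⧸ Subgroup.center K))) ?_
    intro y hy
    refine Subgroup.mem_center_iff.2 fun z => Subtype.ext ?_
    exact Subgroup.mem_center_iff.1 ((QuotientGroup.eq_one_iff (y : K)).1 (congrArg Subtype.val hy)) z
  obtain ⟨S⟩ := (inferInstance : Nonempty (Sylow 2 P))
  have hSn : (S : Subgroup P).Normal := by
    have q := (Group.isNilpotent_of_finite_tfae (G := P)).out 0 3
    exact q.1 ‹Group.IsNilpotent P› 2 ⟨Nat.prime_two⟩ S
  haveI : (S : Subgroup P).Characteristic := Sylow.characteristic_of_normal S hSn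
  haveI : P.Normal := Subgroup.Normal.comap inferInstance π
  have hle : (S : Subgroup P).map P.subtype ≤ Subgroup.center K :=
    (Components.le_pCore inferInstance (S.2.map _)).trans h
  obtain ⟨k, hk⟩ := Basics.pCore_isPGroup (G := K ⧸ Subgroup.center K) 2 ⟨π x, hx⟩
  have hk' : x ^ 2 ^ k ∈ Subgroup.center K :=
    (QuotientGroup.eq_one_iff _).1 (show π (x ^ 2 ^ k) = 1 by rw [map_pow]; exact congrArg Subtype.val hk)
  refine (QuotientGroup.eq_one_iff x).2 ?_
  -- split `x` into its two parts
  obtain ⟨j, o, ho, hxo⟩ := Nat.exists_eq_two_pow_mul_odd (n := orderOf x) (orderOf_pos x).ne'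
  have hxP : x ∈ P := hx
  have h1 : x ^ o ∈ Subgroup.center K := by
    refine hle ⟨⟨x ^ o, pow_mem hxP _⟩, ?_, rfl⟩
    have hcard : IsPGroup 2 (Subgroup.zpowers (⟨x ^ o, pow_mem hxP _⟩ : P)) := by
      intro y
      refine ⟨j, ?_⟩
      obtain ⟨i, hi⟩ := Subgroup.mem_zpowers_iff.1 y.2
      refine Subtype.ext ?_
      rw [SubmonoidClass.coe_pow, ← hi, ← zpow_natCast, ← zpow_mul, mul_comm, zpow_mul, zpow_natCast,
        show (⟨x ^ o, pow_mem hxP _⟩ : P) ^ 2 ^ j = 1 from Subtype.ext (by
          rw [SubmonoidClass.coe_pow, ← pow_mul, mul_comm, ← hxo, pow_orderOf_eq_one]; rfl), one_zpow]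
      rfl
    obtain ⟨T, hT⟩ := hcard.exists_le_sylow
    haveI := Sylow.unique_of_normal S hSn
    exact Subsingleton.elim T S ▸ hT (Subgroup.mem_zpowers _)
  have hcop : Nat.Coprime o (2 ^ k) :=
    (Nat.Coprime.pow_right k (Nat.coprime_two_right.2 ho))
  have := (Subgroup.center K).mul_mem ((Subgroup.center K).zpow_mem h1 (Nat.gcdA o (2 ^ k)))
    ((Subgroup.center K).zpow_mem hk' (Nat.gcdB o (2 ^ k)))
  rwa [← zpow_natCast x o, ← zpow_natCast x (2 ^ k), ← zpow_mul, ← zpow_mul, ← zpow_add,
    ← Nat.gcd_eq_gcd_ab, hcop, Nat.cast_one, zpow_one] at this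

/-- No six commuting members with product one. -/
theorem no_six (hG : IsThreeTranspositionGroup D) (hprim : IsPrimitiveUnderConj D) {d₀ : G}
    (hd₀ : d₀ ∈ D) (h0 : pCore 2 ↥(H D d₀) ≤ Subgroup.center ↥(H D d₀))
    (h : IsOfTypeM23 G D ∨ IsOfTypeM24 G D) {L : List G} (hL : IsRel D L) (hlen : L.length = 6) :
    False := by
  have hC := class_of_primitive hG hprim
  have hZ : Subgroup.center G = ⊥ := h.elim (fun h => h.1) (fun h => h.1)
  obtain ⟨a, T, rfl⟩ := List.exists_cons_of_length_eq_add_one hlen
  obtain ⟨b, T', rfl⟩ := List.exists_cons_of_length_eq_add_one (show T.length = 4 + 1 by simpa using hlen)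
  have ha := hL.mem a (by simp)
  have hb := hL.mem b (by simp)
  have hab : a ≠ b := fun e => (List.nodup_cons.1 hL.nodup).1 (e ▸ by simp)
  have hcab : Commute a b := hL.comm a (by simp) b (by simp)
  have hw : ∃ a ∈ D, ∃ b ∈ D, a ≠ b ∧ Commute a b := ⟨a, ha, b, hb, hab, hcab⟩
  have h2 : pCore 2 G = ⊥ := le_bot_iff.1 (hZ ▸ (pCores_central_of_primitive hG hprim hw).1)
  have key : ∀ w ∈ D, IsThreeTranspositionClass (img D w) ∧
      pCore 2 (↥(H D w) ⧸ Subgroup.center ↥(H D w)) = ⊥ := by
    intro w hw'
    obtain ⟨g, hg⟩ := class_exists_conj hC hd₀ hw'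
    obtain ⟨g', hg'⟩ := class_exists_conj hC ha hw'
    refine ⟨img_class hC h2 hw' ⟨g' * b * g'⁻¹, hg' ▸ perp_conj hG g' ⟨hb, hab.symm, hcab⟩⟩
      fun x hx y hy => perp_orbit hG hprim hZ hw' hx hy, pCore_quot_center ?_⟩
    subst hg
    exact core_transport hG g h0
  rcases h with ⟨-, w, hw', c, -, -, hT, -⟩ | ⟨-, w, hw', c, -, -, hT, -⟩
  all_goals
    obtain ⟨L', hL', hlen'⟩ := descend hC h2 hw' hL hlen
  · exact m22_five (key w hw').1 (key w hw').2 hT hL' hlen'
  · exact m23_five (key w hw').1 (key w hw').2 hT hL' hlen'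

/-- Uniqueness of products of at most three commuting members. -/
theorem unique (hG : IsThreeTranspositionGroup D) (hprim : IsPrimitiveUnderConj D) {d₀ : G}
    (hd₀ : d₀ ∈ D) (h0 : pCore 2 ↥(H D d₀) ≤ Subgroup.center ↥(H D d₀))
    (h : IsOfTypeM23 G D ∨ IsOfTypeM24 G D) :
    ∀ (m : ℕ), m ≤ 3 → ∀ l l' : List G, (l ++ []).Nodup → l'.Nodup → l.length = m → l'.length = m →
      (∀ a ∈ l ++ l', a ∈ D) → (∀ a ∈ l ++ l', ∀ b ∈ l ++ l', Commute a b) → l.prod = l'.prod →
      l.Perm l' := by
  classical
  have hZ : Subgroup.center G = ⊥ := h.elim (fun h => h.1) (fun h => h.1)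
  intro m
  induction m with
  | zero =>
    intro _ l l' _ _ h1 h2 _ _ _
    rw [List.eq_nil_of_length_eq_zero h1, List.eq_nil_of_length_eq_zero h2]
  | succ m ih =>
    intro hm l l' hn hn' h1 h2 hD' hcm hp
    rw [List.append_nil] at hn
    by_cases hx : ∃ x ∈ l, x ∈ l'
    · obtain ⟨x, hxl, hxl'⟩ := hx
      have p1 := List.perm_cons_erase hxl
      have p2 := List.perm_cons_erase hxl'
      have e1 : l.prod = x * (l.erase x).prod := by
        rw [p1.prod_eq' (List.pairwise_of_forall_mem_list fun a ha b hb =>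
          hcm a (List.mem_append_left _ ha) b (List.mem_append_left _ hb)), List.prod_cons]
      have e2 : l'.prod = x * (l'.erase x).prod := by
        rw [p2.prod_eq' (List.pairwise_of_forall_mem_list fun a ha b hb =>
          hcm a (List.mem_append_right _ ha) b (List.mem_append_right _ hb)), List.prod_cons]
      have hs : ∀ a ∈ l.erase x ++ l'.erase x, a ∈ l ++ l' := fun a ha =>
        (List.mem_append.1 ha).elim (fun h => List.mem_append_left _ (List.mem_of_mem_erase h))
          (fun h => List.mem_append_right _ (List.mem_of_mem_erase h))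
      have := ih (by omega) (l.erase x) (l'.erase x) (by simpa using hn.erase x) (hn'.erase x)
        (by rw [List.length_erase_of_mem hxl, h1]; rfl) (by rw [List.length_erase_of_mem hxl', h2]; rfl)
        (fun a ha => hD' a (hs a ha)) (fun a ha b hb => hcm a (hs a ha) b (hs b hb))
        (mul_left_cancel (e1 ▸ e2 ▸ hp))
      exact p1.trans ((this.cons x).trans p2.symm)
    exfalso
    push Not at hx
    have hrel : IsRel D (l ++ l') := by
      refine ⟨List.nodup_append.2 ⟨hn, hn', fun a ha b hb e => hx a ha (e ▸ hb)⟩, hD', hcm, ?_⟩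
      rw [List.prod_append, hp]
      have hp1 : ∀ l'' : List G, (∀ a ∈ l'', a ∈ D) → (∀ a ∈ l'', ∀ b ∈ l'', Commute a b) →
          l''.prod * l''.prod = 1 := by
        intro l''
        induction l'' with
        | nil => simp
        | cons a t iht =>
          intro h3 h4
          have hc : Commute a t.prod := Commute.list_prod_right t a fun y hy => h4 a (by simp) y (by simp [hy])
          rw [List.prod_cons, Commute.mul_mul_mul_comm (Commute.symm hc), tt_mul_self hG.1 (h3 a (by simp)), one_mul,
            iht (fun y hy => h3 y (by simp [hy])) fun y hy z hz => h4 y (by simp [hy]) z (by simp [hz])]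
      exact hp1 l' (fun a ha => hD' a (List.mem_append_right _ ha))
        fun a ha b hb => hcm a (List.mem_append_right _ ha) b (List.mem_append_right _ hb)
    have hlen : (l ++ l').length = 2 * (m + 1) := by rw [List.length_append, h1, h2]; omega
    obtain rfl | rfl | rfl : m = 0 ∨ m = 1 ∨ m = 2 := by omega
    · obtain ⟨a, rfl⟩ := List.length_eq_one_iff.1 h1
      obtain ⟨b, rfl⟩ := List.length_eq_one_iff.1 h2
      exact hx a (by simp) (by simpa using hp)
    · obtain ⟨a, ha, b, hb, hne, hV⟩ := relV_of_four hG.1 hrel hlen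
      have hw : ∃ a ∈ D, ∃ b ∈ D, a ≠ b ∧ Commute a b := ⟨a, ha, b, hb, hne, relV_comm ha hV⟩
      have := relV_mem_pCore hG ha hb hV
      have h2 := (pCores_central_of_primitive hG hprim hw).1
      rw [hZ] at h2
      replace this := Subgroup.mem_bot.1 (h2 this)
      exact hne (by rw [eq_inv_of_mul_eq_one_left this, tt_inv hG.1 hb])
    · exact no_six hG hprim hd₀ h0 h hrel hlen

/-- A member commuting with a product of at most three distinct commuting members commutes with each. -/
theorem commute_each (hS : IsThreeTranspositionSet D) {l : List G} (hn : l.Nodup) (hlen : l.length ≤ 3)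
    (hD : ∀ a ∈ l, a ∈ D) (hcm : ∀ a ∈ l, ∀ b ∈ l, Commute a b) {x : G} (hx : x ∈ D)
    (h : Commute x l.prod) : ∀ a ∈ l, Commute x a := by
  match l with
  | [] => simp
  | [a] => simpa using h
  | [a, b] =>
    simp only [List.prod_cons, List.prod_nil, mul_one] at h
    simp only [List.nodup_cons, List.mem_cons, List.not_mem_nil, or_false] at hn
    have ha := hD a (by simp); have hb := hD b (by simp)
    intro y hy
    have hab : Commute a b := hcm a (by simp) b (by simp)
    simp only [List.mem_cons, List.not_mem_nil, or_false] at hy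
    rcases hy with rfl | rfl
    · exact commute_of_pair hS ha hb hx hn.1 h
    · exact commute_of_pair hS hb ha hx (Ne.symm hn.1) (hab.eq ▸ h)
  | [a, b, c] =>
    simp only [List.prod_cons, List.prod_nil, mul_one, ← mul_assoc] at h
    simp only [List.nodup_cons, List.mem_cons, List.not_mem_nil, or_false, not_or] at hn
    obtain ⟨⟨hab, hac⟩, hbc, -⟩ := hn
    have ha := hD a (by simp); have hb := hD b (by simp); have hc := hD c (by simp)
    have cab : Commute a b := hcm a (by simp) b (by simp)
    have cbc : Commute b c := hcm b (by simp) c (by simp)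
    have cac : Commute a c := hcm a (by simp) c (by simp)
    intro y hy
    simp only [List.mem_cons, List.not_mem_nil, or_false] at hy
    rcases hy with rfl | rfl | rfl
    · exact commute_of_triple hS ha hb hc hx hab hac cab cbc h
    · exact commute_of_triple hS hb ha hc hx (Ne.symm hab) hbc cab.symm cac (cab.eq ▸ h)
    · refine commute_of_triple hS hc ha hb hx (Ne.symm hac) (Ne.symm hbc) cac.symm cab ?_
      rwa [show y * a * b = a * b * y by rw [mul_assoc, (cac.symm.mul_right cbc.symm).eq]]
  | _ :: _ :: _ :: _ :: _ => simp only [List.length_cons] at hlen; omega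

end Cfsg.Agent.Fischer3Rel
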