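import Cfsg.Agent.Lib.Fischer3Rel.Basic

/-!
# The perp of a member of a primitive class is one orbit
-/

set_option autoImplicit false
set_option linter.unusedSectionVars false

namespace Cfsg.Agent.Fischer3Rel

open Cfsg ClassK Fischer3

universe u

variable {G : Type u} [Group G] [Finite G] {D : Set G}

/-- The orbit of `a` under the group of the perp of `d`. -/
def orb (D : Set G) (d a : G) : Set G := {z | ∃ k ∈ H D d, z = k * a * k⁻¹}

theorem orb_self (d a : G) : a ∈ orb D d a := ⟨1, one_mem _, by simp⟩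

theorem orb_symm {d a b : G} (h : b ∈ orb D d a) : a ∈ orb D d b := by
  obtain ⟨k, hk, rfl⟩ := h
  exact ⟨k⁻¹, inv_mem hk, by group⟩

theorem orb_trans {d a b c : G} (h : b ∈ orb D d a) (h' : c ∈ orb D d b) : c ∈ orb D d a := by
  obtain ⟨k, hk, rfl⟩ := h
  obtain ⟨l, hl, rfl⟩ := h'
  exact ⟨l * k, mul_mem hl hk, by group⟩

theorem orb_subset (hG : IsThreeTranspositionGroup D) {d a z : G} (ha : a ∈ perp D d)
    (hz : z ∈ orb D d a) : z ∈ perp D d := by
  obtain ⟨k, hk, rfl⟩ := hz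
  exact conj_perp hG hk ha

theorem orb_of_noncomm (hG : IsThreeTranspositionGroup D) {d y z : G} (hy : y ∈ perp D d)
    (hz : z ∈ perp D d) (h : ¬ Commute y z) : y ∈ orb D d z := by
  refine ⟨z * y, mul_mem (Subgroup.subset_closure hz) (Subgroup.subset_closure hy), ?_⟩
  rw [mul_inv_rev, tt_inv hG.1 hy.1, tt_inv hG.1 hz.1]
  calc y = (z * z) * y * (z * z) := by rw [tt_mul_self hG.1 hz.1, one_mul, mul_one]
    _ = z * (z * y * z) * z := by simp only [mul_assoc]
    _ = z * (y * z * y) * z := by rw [tt_braid hG.1 hz.1 hy.1 (fun e => h e.symm)]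
    _ = _ := by simp only [mul_assoc]

theorem perp_conj (hG : IsThreeTranspositionGroup D) (g : G) {d y : G} (hy : y ∈ perp D d) :
    g * y * g⁻¹ ∈ perp D (g * d * g⁻¹) :=
  ⟨hG.2.1 g y hy.1, fun e => hy.2.1 (mul_left_cancel (mul_right_cancel e)), commute_conj g hy.2.2⟩

theorem H_conj (hG : IsThreeTranspositionGroup D) (g : G) (d : G) :
    (H D d).map (MulAut.conj g).toMonoidHom = H D (g * d * g⁻¹) := by
  rw [MonoidHom.map_closure]
  congr 1
  ext z
  constructor
  · rintro ⟨y, hy, rfl⟩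
    exact perp_conj hG g hy
  · intro hz
    refine ⟨g⁻¹ * z * g, ?_, show g * (g⁻¹ * z * g) * g⁻¹ = z by group⟩
    have h := perp_conj hG g⁻¹ hz
    rw [inv_inv, show g⁻¹ * (g * d * g⁻¹) * g = d by group] at h
    exact h

theorem orb_conj (hG : IsThreeTranspositionGroup D) (g : G) {d a z : G}
    (h : g * z * g⁻¹ ∈ orb D (g * d * g⁻¹) (g * a * g⁻¹)) : z ∈ orb D d a := by
  obtain ⟨k, hk, e⟩ := h
  rw [← H_conj hG g d] at hk
  obtain ⟨l, hl, rfl⟩ := hk
  refine ⟨l, hl, ?_⟩
  change g * z * g⁻¹ = g * l * g⁻¹ * (g * a * g⁻¹) * (g * l * g⁻¹)⁻¹ at e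
  rw [show g * l * g⁻¹ * (g * a * g⁻¹) * (g * l * g⁻¹)⁻¹ = g * (l * a * l⁻¹) * g⁻¹ by group] at e
  exact mul_left_cancel (mul_right_cancel e)

/-- In a primitive group of 3-transpositions with trivial centre the perp of a member is an orbit
of the group that it generates. -/
theorem perp_orbit (hG : IsThreeTranspositionGroup D) (hprim : IsPrimitiveUnderConj D)
    (hZ : Subgroup.center G = ⊥) {d a b : G} (hd : d ∈ D) (ha : a ∈ perp D d)
    (hb : b ∈ perp D d) : ∃ k ∈ H D d, k * a * k⁻¹ = b := by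
  have hw : ∃ a ∈ D, ∃ b ∈ D, a ≠ b ∧ Commute a b := ⟨a, ha.1, d, hd, ha.2.1, ha.2.2.symm⟩
  have hC := class_of_primitive hG hprim
  obtain ⟨h2, h3⟩ := pCores_central_of_primitive hG hprim hw
  have h2' : pCore 2 G = ⊥ := le_bot_iff.1 (hZ ▸ h2)
  obtain ⟨L, hn, hL, -⟩ := exists_component_data hC hprim.2.1 h2 h3
  have hidx := index_le_two_of_connected hC hL (connected_of_primitive hG hprim hw)
  by_contra hab
  -- the bad pairs, one of smallest orbit
  classical
  have hex : ∃ n, ∃ d ∈ D, ∃ a ∈ perp D d, (∃ b ∈ perp D d, b ∉ orb D d a) ∧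
      (orb D d a).ncard = n :=
    ⟨_, d, hd, a, ha, ⟨b, hb, fun ⟨k, hk, e⟩ => hab ⟨k, hk, e.symm⟩⟩, rfl⟩
  obtain ⟨d, hd, a, ha, ⟨b₀, hb₀, hb₀'⟩, hcard⟩ := Nat.find_spec hex
  have hmin : ∀ e ∈ D, ∀ p ∈ perp D e, (∃ q ∈ perp D e, q ∉ orb D e p) →
      (orb D d a).ncard ≤ (orb D e p).ncard := fun e he p hp hq =>
    hcard ▸ Nat.find_min' hex ⟨e, he, p, hp, hq, rfl⟩
  have hda : d ∈ perp D a := ⟨hd, fun e => ha.2.1 e.symm, ha.2.2.symm⟩
  -- a common neighbour outside both orbits
  obtain ⟨b, hb, hba, hb1, hb2⟩ :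
      ∃ b ∈ perp D d, b ∈ perp D a ∧ b ∉ orb D d a ∧ b ∉ orb D a d := by
    by_contra! hnone
    obtain ⟨g, hg⟩ := class_exists_conj hC hd ha.1
    obtain ⟨p, hp, hp'⟩ : ∃ p ∈ perp D a, p ∉ orb D a d := by
      by_contra! hall
      refine hb₀' (orb_conj hG g ?_)
      rw [hg]
      have h1 := perp_conj hG g hb₀
      have h0 := perp_conj hG g ha
      rw [hg] at h1 h0
      exact orb_trans (orb_symm (hall _ h0)) (hall _ h1)
    have hsub : orb D a p ⊆ orb D d a \ {a} := by
      intro z hz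
      have hza := orb_subset hG hp hz
      refine ⟨?_, hza.2.1⟩
      have hzd : z ∉ orb D a d := fun e => hp' (orb_trans e (orb_symm hz))
      have hcm : Commute d z := by
        by_contra h
        exact hzd (orb_of_noncomm hG hza hda (fun e => h e.symm))
      by_contra hzn
      exact hzd (hnone z ⟨hza.1, fun e => hzd (e ▸ orb_self _ _), hcm⟩ hza hzn)
    have h1 := Set.ncard_le_ncard hsub
    rw [Set.ncard_diff_singleton_of_mem (orb_self _ _)] at h1
    have h2 := hmin a ha.1 p hp ⟨d, hda, fun e => hp' (orb_symm e)⟩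
    have h3 : 0 < (orb D d a).ncard := (Set.ncard_pos (Set.toFinite _)).2 ⟨a, orb_self _ _⟩
    omega
  -- the orbit of `b` lies in the orbit of `b` at `a`
  set R := orb D d b with hR
  have hRd : ∀ z ∈ R, z ∈ perp D d := fun z hz => orb_subset hG hb hz
  have hRa : ∀ z ∈ R, z ∈ perp D a := by
    intro z hz
    refine ⟨(hRd z hz).1, fun e => hb1 (orb_symm (e ▸ hz)), ?_⟩
    by_contra h
    exact hb1 (orb_trans (orb_of_noncomm hG (hRd z hz) ha (fun e => h e.symm)) (orb_symm hz))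
  have hRin : ∀ k ∈ H D d, k * b * k⁻¹ ∈ orb D a b := by
    have step : ∀ e ∈ perp D d, ∀ z ∈ R, z ∈ orb D a b → e * z * e⁻¹ ∈ orb D a b := by
      intro e he z hz hz'
      by_cases h : Commute e z
      · rwa [conj_eq_of_commute h]
      · refine orb_trans hz' ⟨e, Subgroup.subset_closure (hRa e ?_), rfl⟩
        exact orb_trans hz (orb_of_noncomm hG he (hRd z hz) h)
    intro k hk
    induction hk using Subgroup.closure_induction_left with
    | one => simpa using orb_self a b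
    | mul_left x hx y hy ih =>
      have := step x hx _ ⟨y, hy, rfl⟩ ih
      rwa [show x * (y * b * y⁻¹) * x⁻¹ = x * y * b * (x * y)⁻¹ by group] at this
    | inv_mul_cancel x hx y hy ih =>
      have := step x hx _ ⟨y, hy, rfl⟩ ih
      rw [tt_inv hG.1 hx.1]
      rwa [show x * (y * b * y⁻¹) * x⁻¹ = x * y * b * (x * y)⁻¹ by group] at this
  -- a member at `a` outside the perp of `d` centralises the orbit
  obtain ⟨y, hy, hyd⟩ := perp_noncentral hC h2' ha.1 hda
  have hyR : ∀ z ∈ R, Commute y z := by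
    intro z hz
    obtain ⟨k, hk, rfl⟩ := id hz
    by_contra h
    refine hb2 (orb_trans ?_ (orb_symm (orb_trans (hRin k hk) (orb_of_noncomm hG hy (hRa _ hz) h))))
    exact orb_of_noncomm hG hy hda (fun e => hyd e.symm)
  -- so the orbit is invariant under the whole group
  set M : Subgroup G :=
    { carrier := {g | ∀ z, z ∈ R ↔ g * z * g⁻¹ ∈ R}
      one_mem' := fun z => by simp
      mul_mem' := fun {g k} hg hk z => by
        rw [hk z, hg (k * z * k⁻¹), show g * (k * z * k⁻¹) * g⁻¹ = g * k * z * (g * k)⁻¹ by group]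
      inv_mem' := fun {g} hg z => by
        rw [hg (g⁻¹ * z * g⁻¹⁻¹), show g * (g⁻¹ * z * g⁻¹⁻¹) * g⁻¹ = z by group] }
  have hfix : ∀ g : G, (∀ z ∈ R, Commute g z) → g ∈ M := by
    intro g hg z
    refine ⟨fun h => by rwa [conj_eq_of_commute (hg z h)], fun h => ?_⟩
    have := hg _ h
    rwa [show z = g * z * g⁻¹ from mul_left_cancel (a := g) (mul_right_cancel (b := g⁻¹) (by
      rw [this.eq]; group))]
  have hHM : H D d ≤ M := fun k hk z => by
    refine ⟨fun ⟨l, hl, e⟩ => ⟨k * l, mul_mem hk hl, by rw [e]; group⟩, fun ⟨l, hl, e⟩ => ?_⟩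
    refine ⟨k⁻¹ * l, mul_mem (inv_mem hk) hl, ?_⟩
    rw [show z = k⁻¹ * (k * z * k⁻¹) * k by group, e]
    group
  set T := {x : G | x ∈ D ∧ Commute d x} ∪ {y}
  have hTM : Subgroup.closure T ≤ M := by
    refine (Subgroup.closure_le _).2 fun x hx => ?_
    rcases hx with hx | rfl
    · by_cases e : x = d
      · exact e ▸ hfix d fun z hz => (hRd z hz).2.2
      · exact hHM (Subgroup.subset_closure ⟨hx.1, e, hx.2⟩)
    · exact hfix x hyR
  have hD' : IsDSubgroup D (Subgroup.closure T) := le_antisymm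
    ((Subgroup.closure_le _).2 fun x hx => hx.2)
    (Subgroup.closure_mono fun x hx =>
      ⟨hx.elim (fun h => h.1) (fun h => h.symm ▸ hy.1), Subgroup.subset_closure hx⟩)
  rcases perp_maximal hC hprim.2.1 h2 h3 hL hidx hd hD'
      (Subgroup.closure_mono Set.subset_union_left) with e | e
  · have hle : Subgroup.closure {x : G | x ∈ D ∧ Commute d x} ≤ Subgroup.centralizer {d} :=
      (Subgroup.closure_le _).2 fun x hx => Subgroup.mem_centralizer_singleton_iff.2 hx.2.eq.symm
    exact hyd (Subgroup.mem_centralizer_singleton_iff.1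
      (hle (e ▸ Subgroup.subset_closure (Or.inr rfl : y ∈ T)))).symm
  · obtain ⟨g, hg⟩ := class_exists_conj hC hb.1 hd
    have := (hTM (e ▸ Subgroup.mem_top g) b).1 (orb_self d b)
    rw [hg] at this
    exact (hRd d this).2.1 rfl

end Cfsg.Agent.Fischer3Rel
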