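import Cfsg.Agent.Lib.Fischer3Rel.Main

/-!
# Exchanging commuting members
-/

set_option autoImplicit false
set_option linter.unusedSectionVars false

namespace Cfsg.Agent.Fischer3Rel

open Cfsg ClassK Fischer3

universe u

variable {G : Type u} [Group G] [Finite G] {D : Set G}

/-- Two commuting members of the perp have a common noncommuting member in it. -/
theorem common_noncomm (hC : IsThreeTranspositionClass D) (h2 : pCore 2 G = ⊥) {d a b : G}
    (hd : d ∈ D) (ha : a ∈ perp D d) (hb : b ∈ perp D d) (hab : Commute a b)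
    (horb : ∀ x ∈ perp D d, ∀ y ∈ perp D d, ∃ k ∈ H D d, k * x * k⁻¹ = y) :
    ∃ x ∈ perp D d, ¬ Commute x a ∧ ¬ Commute x b := by
  have hG := class_group hC
  have hS := hC.1
  by_contra! hnone
  let P : G → Prop := fun z => z ∈ perp D d ∧ Commute z b ∧
    ∀ x ∈ perp D d, ¬ Commute x z → Commute x b
  have step : ∀ e ∈ perp D d, ∀ z, P z → P (e * z * e⁻¹) := by
    intro e he z ⟨hz, hzb, hzn⟩
    by_cases h : Commute e z
    · rw [conj_eq_of_commute h]
      exact ⟨hz, hzb, hzn⟩
    · have heb : Commute e b := hzn e he h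
      have he2 : e * b * e⁻¹ = b := conj_eq_of_commute heb
      refine ⟨conj_perp hG (Subgroup.subset_closure he) hz, ?_, fun x hx hn => ?_⟩
      · have := commute_conj e hzb
        rwa [he2] at this
      · have hx' := conj_perp hG (Subgroup.subset_closure he) hx
        have hee : e⁻¹ = e := tt_inv hS he.1
        have h1 : ¬ Commute (e * x * e⁻¹) z := fun hc => hn (by
          have := commute_conj e hc
          rwa [show e * (e * x * e⁻¹) * e⁻¹ = x by
            simp only [hee, ← mul_assoc, tt_mul_self hS he.1, one_mul, mul_assoc x e e, mul_one]] at this)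
        have := commute_conj e (hzn _ hx' h1)
        rwa [he2, show e * (e * x * e⁻¹) * e⁻¹ = x by
            simp only [hee, ← mul_assoc, tt_mul_self hS he.1, one_mul, mul_assoc x e e, mul_one]] at this
  have hall : ∀ k ∈ H D d, P (k * a * k⁻¹) := by
    intro k hk
    induction hk using Subgroup.closure_induction_left with
    | one => simpa using (show P a from ⟨ha, hab, hnone⟩)
    | mul_left x hx y _ ih =>
      have := step x hx _ ih
      rwa [show x * (y * a * y⁻¹) * x⁻¹ = x * y * a * (x * y)⁻¹ by group] at this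
    | inv_mul_cancel x hx y _ ih =>
      have := step x hx _ ih
      rw [tt_inv hS hx.1]
      rwa [show x * (y * a * y⁻¹) * x⁻¹ = x * y * a * (x * y)⁻¹ by group] at this
  obtain ⟨y, hy, hn⟩ := perp_noncentral hC h2 hd hb
  obtain ⟨k, hk, e⟩ := horb a ha b hb
  exact hn ((e ▸ hall k hk : P b).2.2 y hy (fun h => hn h.symm)).symm

/-- An element fixing `d` which exchanges two commuting members of its perp. -/
theorem exists_swap (hC : IsThreeTranspositionClass D) (h2 : pCore 2 G = ⊥) {d a b : G}
    (hd : d ∈ D) (ha : a ∈ perp D d) (hb : b ∈ perp D d) (hab : Commute a b)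
    (horb : ∀ x ∈ perp D d, ∀ y ∈ perp D d, ∃ k ∈ H D d, k * x * k⁻¹ = y) :
    ∃ g : G, g * d * g⁻¹ = d ∧ g * a * g⁻¹ = b ∧ g * b * g⁻¹ = a := by
  obtain ⟨x, hx, hxa, hxb⟩ := common_noncomm hC h2 hd ha hb hab horb
  have hS := hC.1
  have key : ∀ p q : G, p ∈ D → q ∈ D → ¬ Commute x p → ¬ Commute x q → Commute p q →
      x * p * q * x * p * (x * p * q * x)⁻¹ = q := by
    intro p q hp hq hxp hxq hpq
    rw [mul_inv_rev, mul_inv_rev, mul_inv_rev, tt_inv hS hp, tt_inv hS hq, tt_inv hS hx.1]
    calc x * p * q * x * p * (x * (q * (p * x))) = x * p * q * (x * p * x) * q * p * x := by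
          simp only [mul_assoc]
      _ = x * p * q * (p * x * p) * q * p * x := by rw [tt_braid hS hx.1 hp hxp]
      _ = x * (p * q * p) * x * (p * q * p) * x := by simp only [mul_assoc]
      _ = x * q * x * q * x := by
        rw [show p * q * p = q by rw [hpq.eq, mul_assoc, tt_mul_self hS hp, mul_one]]
      _ = x * (q * x * q) * x := by simp only [mul_assoc]
      _ = x * (x * q * x) * x := by rw [← tt_braid hS hx.1 hq hxq]
      _ = q := by
        simp only [← mul_assoc, tt_mul_self hS hx.1, one_mul]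
        rw [mul_assoc, tt_mul_self hS hx.1, mul_one]
  refine ⟨x * a * b * x, ?_, key a b ha.1 hb.1 hxa hxb hab, ?_⟩
  · exact conj_eq_of_commute (((hx.2.2.symm.mul_left ha.2.2.symm).mul_left hb.2.2.symm).mul_left
      hx.2.2.symm)
  · rw [show x * a * b * x = x * b * a * x by rw [mul_assoc x a b, hab.eq, ← mul_assoc]]
    exact key b a hb.1 ha.1 hxb hxa hab.symm

/-- Conjugation preserves the three members with a given product. -/
theorem triple_perm (hG : IsThreeTranspositionGroup D) (hprim : IsPrimitiveUnderConj D) {d₀ : G}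
    (hd₀ : d₀ ∈ D) (h0 : pCore 2 ↥(H D d₀) ≤ Subgroup.center ↥(H D d₀))
    (h : IsOfTypeM23 G D ∨ IsOfTypeM24 G D) {l : List G} (hn : l.Nodup) (hlen : l.length ≤ 3)
    (hmem : ∀ a ∈ l, a ∈ D) (hcm : ∀ a ∈ l, ∀ b ∈ l, Commute a b) {g : G} (hg : Commute g l.prod) :
    ∀ a ∈ l, g * a * g⁻¹ ∈ l := by
  set f := (MulAut.conj g).toMonoidHom
  have hf : Function.Injective f := (MulAut.conj g).injective
  have hp : (l.map f).prod = l.prod := by
    rw [← map_list_prod]
    exact conj_eq_of_commute hg
  have hmem' : ∀ a ∈ l.map f, a ∈ D := fun a ha => by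
    obtain ⟨b, hb, rfl⟩ := List.mem_map.1 ha
    exact hG.2.1 g b (hmem b hb)
  have hcm' : ∀ a ∈ l.map f, ∀ b ∈ l.map f, Commute a b := fun a ha b hb => by
    obtain ⟨a', ha', rfl⟩ := List.mem_map.1 ha
    obtain ⟨b', hb', rfl⟩ := List.mem_map.1 hb
    exact (hcm a' ha' b' hb').map f
  have hx : ∀ y ∈ l.map f, ∀ a ∈ l, Commute y a := fun y hy =>
    commute_each hG.1 hn hlen hmem hcm (hmem' y hy)
      (hp ▸ Commute.list_prod_right (l.map f) y fun z hz => hcm' y hy z hz)
  have hperm := unique hG hprim hd₀ h0 h l.length hlen l (l.map f) (by simpa using hn) (hn.map hf) rfl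
    (List.length_map _)
    (fun a ha => (List.mem_append.1 ha).elim (hmem a) (hmem' a))
    (fun a ha b hb => (List.mem_append.1 ha).elim
      (fun h1 => (List.mem_append.1 hb).elim (hcm a h1 b) (fun h2 => (hx b h2 a h1).symm))
      (fun h1 => (List.mem_append.1 hb).elim (hx a h1 b) (hcm' a h1 b)))
    hp.symm
  exact fun a ha => hperm.mem_iff.2 (List.mem_map_of_mem ha)

end Cfsg.Agent.Fischer3Rel
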